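import Mathlib

/-! Finite etale algebras in characteristic `p` lift along surjections, up to a covering. -/

set_option autoImplicit false

open TensorProduct

universe u

namespace Groth.Agent.FrobLift

theorem pow_congr_of_sq_zero {Q : Type*} [CommRing Q] {p : ℕ} (hp : p.Prime) (hQ : (p : Q) = 0) {I : Ideal Q}
    (hI : I ^ 2 = ⊥) {y z : Q} (h : y - z ∈ I) : y ^ p = z ^ p := by
  obtain ⟨r, hr⟩ := exists_add_pow_prime_eq hp z (y - z)
  have h2 : (y - z) ^ p = 0 := by
    have := Ideal.pow_le_pow_right hp.two_le (Ideal.pow_mem_pow h p)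
    rwa [hI, Ideal.mem_bot] at this
  rw [add_sub_cancel, h2, hQ, zero_mul, zero_mul, zero_mul, add_zero, add_zero] at hr
  exact hr

variable {R : Type u} [CommRing R] {ι : Type} [Fintype ι] [DecidableEq ι] (p : ℕ) (M : Matrix ι ι R)

/-- The relations `X_i ^ p = ∑ M_ij X_j`. -/
noncomputable def rel (i : ι) : MvPolynomial ι R :=
  MvPolynomial.X i ^ p - ∑ j, MvPolynomial.C (M i j) * MvPolynomial.X j

/-- The universal algebra with `x ^ p = M x`. -/
abbrev Alg : Type u := MvPolynomial ι R ⧸ Ideal.span (Set.range (rel p M))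

theorem mk_X_pow (i : ι) : (Ideal.Quotient.mk (Ideal.span (Set.range (rel p M))) (MvPolynomial.X i)) ^ p =
    ∑ j, algebraMap R (Alg p M) (M i j) * Ideal.Quotient.mk _ (MvPolynomial.X j) := by
  have h : Ideal.Quotient.mk (Ideal.span (Set.range (rel p M))) (rel p M i) = 0 :=
    Ideal.Quotient.eq_zero_iff_mem.2 (Ideal.subset_span ⟨i, rfl⟩)
  rw [rel, map_sub, map_pow, map_sum, sub_eq_zero] at h
  rw [h]
  refine Finset.sum_congr rfl fun j _ => ?_
  rw [map_mul]
  rfl

theorem finite (hp : 1 < p) : Module.Finite R (Alg p M) := by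
  classical
  let q : MvPolynomial ι R →ₐ[R] Alg p M := Ideal.Quotient.mkₐ R _
  let S : Set (Alg p M) := Set.range fun e : ι → Fin p => q (MvPolynomial.monomial (Finsupp.equivFunOnFinite.symm fun i => (e i : ℕ)) 1)
  have key : ∀ (n : ℕ) (m : ι →₀ ℕ), m.degree = n → q (MvPolynomial.monomial m 1) ∈ Submodule.span R S := by
    intro n
    induction n using Nat.strong_induction_on with
    | _ n ih =>
      intro m hm
      by_cases hsmall : ∀ i, m i < p
      · refine Submodule.subset_span ⟨fun i => ⟨m i, hsmall i⟩, ?_⟩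
        refine congrArg q (congrArg (MvPolynomial.monomial · (1 : R)) ?_)
        ext i
        simp
      · push_neg at hsmall
        obtain ⟨i, hi⟩ := hsmall
        have hsplit : m = Finsupp.single i p + (m - Finsupp.single i p) := by
          rw [add_tsub_cancel_of_le (Finsupp.single_le_iff.2 hi)]
        rw [hsplit, ← one_mul (1 : R), ← MvPolynomial.monomial_mul, map_mul, ← MvPolynomial.X_pow_eq_monomial, map_pow]
        change (Ideal.Quotient.mk _ (MvPolynomial.X i)) ^ p * _ ∈ _
        rw [mk_X_pow, Finset.sum_mul]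
        refine sum_mem fun j _ => ?_
        rw [mul_assoc, ← Algebra.smul_def]
        refine Submodule.smul_mem _ _ ?_
        change q (MvPolynomial.X j) * q (MvPolynomial.monomial (m - Finsupp.single i p) 1) ∈ _
        rw [← map_mul, MvPolynomial.X, MvPolynomial.monomial_mul, mul_one]
        have hd : m.degree = p + (m - Finsupp.single i p).degree := by
          conv_lhs => rw [hsplit]
          rw [map_add, Finsupp.degree_single]
        refine ih _ ?_ _ rfl
        rw [map_add, Finsupp.degree_single]
        omega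
  refine Module.finite_def.2 ?_
  have htop : Submodule.span R S = ⊤ := by
    rw [eq_top_iff]
    intro z _
    obtain ⟨f, rfl⟩ := Ideal.Quotient.mkₐ_surjective R _ z
    rw [← f.support_sum_monomial_coeff, map_sum]
    refine sum_mem fun m _ => ?_
    rw [← mul_one (f.coeff m), ← smul_eq_mul, ← MvPolynomial.smul_monomial, map_smul]
    exact Submodule.smul_mem _ _ (key _ m rfl)
  rw [← htop]
  exact Submodule.fg_span (Set.finite_range _)

theorem etale (hp : p.Prime) (hR : (p : R) = 0) (hM : IsUnit M.det) : Algebra.Etale R (Alg p M) := by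
  classical
  haveI : Algebra.FinitePresentation R (Alg p M) :=
    Algebra.FinitePresentation.quotient (Submodule.fg_span (Set.finite_range _))
  haveI : Algebra.FormallyEtale R (Alg p M) := by
    rw [Algebra.FormallyEtale.iff_comp_bijective]
    intro Q _ _ I hI
    have hQ : (p : Q) = 0 := by rw [← map_natCast (algebraMap R Q), hR, map_zero]
    set N : Matrix ι ι Q := M.map (algebraMap R Q) with hN
    have hNdet : IsUnit N.det := by
      have : N.det = algebraMap R Q M.det := (RingHom.map_det _ _).symm
      rw [this]; exact hM.map _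
    let gen : ι → Alg p M := fun i => Ideal.Quotient.mk _ (MvPolynomial.X i)
    have hrel : ∀ (f : Alg p M →ₐ[R] Q), (fun i => f (gen i) ^ p) = N.mulVec (fun j => f (gen j)) := by
      intro f
      funext i
      rw [← map_pow]
      show f ((Ideal.Quotient.mk _ (MvPolynomial.X i)) ^ p) = _
      rw [mk_X_pow, map_sum]
      simp only [map_mul, AlgHom.commutes]
      rfl
    constructor
    · intro f g hfg
      have hpow : (fun i => f (gen i) ^ p) = fun i => g (gen i) ^ p := funext fun i =>
        pow_congr_of_sq_zero hp hQ hI (Ideal.Quotient.eq.1 (AlgHom.congr_fun hfg (gen i)))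
      rw [hrel, hrel] at hpow
      have hfg' := Matrix.mulVec_injective_of_isUnit ((Matrix.isUnit_iff_isUnit_det _).2 hNdet) hpow
      refine Ideal.Quotient.algHom_ext _ (MvPolynomial.algHom_ext fun i => ?_)
      exact congrFun hfg' i
    · intro φ
      choose y hy using fun i => Ideal.Quotient.mkₐ_surjective R I (φ (gen i))
      let Y : ι → Q := N⁻¹.mulVec fun i => y i ^ p
      have hNY : N.mulVec Y = fun i => y i ^ p := by
        simp only [Y]
        rw [Matrix.mulVec_mulVec, Matrix.mul_nonsing_inv _ hNdet, Matrix.one_mulVec]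
      let π : Q →+* Q ⧸ I := Ideal.Quotient.mk I
      have hy' : ∀ i, π (y i) = φ (gen i) := hy
      have hmodI : ∀ i, π (Y i) = φ (gen i) := by
        have h1 : (N.map π).mulVec (fun i => π (Y i)) = (N.map π).mulVec (fun i => φ (gen i)) := by
          funext i
          have h2 := (RingHom.map_mulVec π N Y i).symm
          refine h2.trans ?_
          rw [hNY, map_pow, hy', ← map_pow]
          show φ ((Ideal.Quotient.mk _ (MvPolynomial.X i)) ^ p) = _
          rw [mk_X_pow, map_sum]
          simp only [map_mul, AlgHom.commutes]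
          rfl
        have hdet : IsUnit (N.map π).det := by
          have : (N.map π).det = π N.det := (RingHom.map_det _ _).symm
          rw [this]; exact hNdet.map π
        exact congrFun (Matrix.mulVec_injective_of_isUnit ((Matrix.isUnit_iff_isUnit_det _).2 hdet) h1)
      have hker : ∀ f ∈ Ideal.span (Set.range (rel p M)), MvPolynomial.aeval Y f = 0 := by
        intro f hf
        refine (Ideal.span_le.2 ?_ : _ ≤ RingHom.ker (MvPolynomial.aeval Y : MvPolynomial ι R →ₐ[R] Q)) hf
        rintro _ ⟨i, rfl⟩
        show MvPolynomial.aeval Y (rel p M i) = 0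
        simp only [rel, map_sub, map_pow, map_sum, map_mul, MvPolynomial.aeval_X, MvPolynomial.aeval_C]
        rw [sub_eq_zero, pow_congr_of_sq_zero hp hQ hI (y := Y i) (z := y i)
          (Ideal.Quotient.eq.1 ((hmodI i).trans (hy' i).symm))]
        exact (congrFun hNY i).symm
      refine ⟨Ideal.Quotient.liftₐ _ (MvPolynomial.aeval Y) hker,
        Ideal.Quotient.algHom_ext _ (MvPolynomial.algHom_ext fun i => ?_)⟩
      show π (MvPolynomial.aeval Y (MvPolynomial.X i)) = φ (gen i)
      rw [MvPolynomial.aeval_X, hmodI]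
  exact ⟨inferInstance, inferInstance⟩

/-- The powers `z ^ p` span a finite unramified algebra in characteristic `p`. -/
theorem span_pow_eq_top {A B : Type u} [CommRing A] [CommRing B] [Algebra A B] [Module.Finite A B]
    [Algebra.FormallyUnramified A B] {p : ℕ} (hp : p.Prime) (hB : (p : B) = 0) :
    Submodule.span A (Set.range fun z : B => z ^ p) = ⊤ := by
  classical
  let B₀ : Subalgebra A B := Algebra.adjoin A (Set.range fun z : B => z ^ p)
  haveI : Module.Finite B₀ B := Module.Finite.of_restrictScalars_finite A B₀ B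
  haveI : Algebra.FormallyUnramified B₀ B := Algebra.FormallyUnramified.of_restrictScalars A B₀ B
  haveI : Algebra.EssFiniteType B₀ B := inferInstance
  obtain ⟨e, he, hsp⟩ : ∃ e, IsIdempotentElem e ∧ KaehlerDifferential.ideal B₀ B = B ⊗[B₀] B ∙ e :=
    (Ideal.isIdempotentElem_iff_of_fg _ (KaehlerDifferential.ideal_fg B₀ B)).mp <|
      (Ideal.cotangent_subsingleton_iff _).mp <| inferInstanceAs <| Subsingleton Ω[B⁄B₀]
  have hT : (p : B ⊗[B₀] B) = 0 := by rw [← map_natCast (algebraMap B (B ⊗[B₀] B)), hB, map_zero]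
  have hnil : KaehlerDifferential.ideal B₀ B ≤ nilradical (B ⊗[B₀] B) := by
    rw [← KaehlerDifferential.span_range_eq_ideal, Ideal.span_le]
    rintro _ ⟨a, rfl⟩
    refine ⟨p, ?_⟩
    obtain ⟨r, hr⟩ := exists_add_pow_prime_eq hp ((1 : B) ⊗ₜ[B₀] a - a ⊗ₜ[B₀] 1) (a ⊗ₜ[B₀] 1)
    rw [sub_add_cancel, hT, zero_mul, zero_mul, zero_mul, add_zero, Algebra.TensorProduct.tmul_pow,
      Algebra.TensorProduct.tmul_pow, one_pow] at hr
    let a₀ : B₀ := ⟨a ^ p, Algebra.subset_adjoin ⟨a, rfl⟩⟩
    have hone : (1 : B) ⊗ₜ[B₀] (a ^ p) = (a ^ p) ⊗ₜ[B₀] (1 : B) := by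
      rw [show a ^ p = a₀ • (1 : B) from by simp [a₀, Subalgebra.smul_def], ← TensorProduct.smul_tmul]
    rw [hone] at hr
    exact add_eq_right.1 hr.symm
  have he0 : e = 0 := by
    obtain ⟨n, hn⟩ := hnil (hsp ▸ Submodule.mem_span_singleton_self e)
    exact he.eq_zero_of_isNilpotent ⟨n, hn⟩
  have hepi : Algebra.IsEpi B₀ B := (Algebra.isEpi_iff_forall_one_tmul_eq B₀ B).2 fun a => by
    have h : (1 : B) ⊗ₜ[B₀] a - a ⊗ₜ[B₀] 1 ∈ KaehlerDifferential.ideal B₀ B :=
      KaehlerDifferential.one_smul_sub_smul_one_mem_ideal B₀ a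
    rw [hsp, he0, Submodule.span_singleton_eq_bot.2 rfl, Submodule.mem_bot, sub_eq_zero] at h
    exact h
  have hsurj := Algebra.isEpi_iff_surjective_algebraMap_of_finite.1 hepi
  rw [eq_top_iff]
  intro z _
  obtain ⟨⟨z, hz⟩, rfl⟩ := hsurj z
  have key : ∀ w : B, z * w ^ p ∈ Submodule.span A (Set.range fun z : B => z ^ p) := by
    clear * - hz
    induction hz using Algebra.adjoin_induction with
    | mem x hx =>
      obtain ⟨u, rfl⟩ := hx
      intro w
      exact Submodule.subset_span ⟨u * w, mul_pow u w p⟩
    | algebraMap r =>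
      intro w
      rw [← Algebra.smul_def]
      exact Submodule.smul_mem _ _ (Submodule.subset_span ⟨w, rfl⟩)
    | add x y _ _ hx hy =>
      intro w
      rw [add_mul]; exact add_mem (hx w) (hy w)
    | mul x y _ _ hx hy =>
      intro w
      rw [mul_assoc]
      have hmem := hy w
      generalize y * w ^ p = t at hmem ⊢
      induction hmem using Submodule.span_induction with
      | mem t ht => obtain ⟨v, rfl⟩ := ht; exact hx v
      | zero => rw [mul_zero]; exact zero_mem _
      | add s t _ _ hs ht => rw [mul_add]; exact add_mem hs ht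
      | smul c t _ ht => rw [mul_smul_comm]; exact Submodule.smul_mem _ _ ht
  have := key 1
  rw [one_pow, mul_one] at this
  exact this

end Groth.Agent.FrobLift
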